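import Mathlib
import Groth.Prelude.Def_CAlgX
import Groth.Prelude.Def_W4stkadequatePure

/-!
# Pure submodules: lifting criteria, pure projective and pure injective modules
-/

universe u

open TensorProduct

namespace GrothLib.PureExt

variable {R : Type u} [CommRing R]

/-- The lifting property of pure projective modules. -/
def PureProj (R : Type u) [CommRing R] (P : Type u) [AddCommGroup P] [Module R P] : Prop :=
  ∀ ⦃L N : Type u⦄ [AddCommGroup L] [Module R L] [AddCommGroup N] [Module R N] (g : L →ₗ[R] N),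
    Function.Surjective g → CAlgX.UniversallyInjective R (LinearMap.ker g).subtype →
    ∀ φ : P →ₗ[R] N, ∃ ψ : P →ₗ[R] L, g ∘ₗ ψ = φ

/-- The extension property of pure injective modules. -/
def PureInj (R : Type u) [CommRing R] (I : Type u) [AddCommGroup I] [Module R I] : Prop :=
  ∀ ⦃K L : Type u⦄ [AddCommGroup K] [Module R K] [AddCommGroup L] [Module R L] (f : K →ₗ[R] L),
    CAlgX.UniversallyInjective R f → ∀ φ : K →ₗ[R] I, ∃ ψ : L →ₗ[R] I, ψ ∘ₗ f = φ

variable {L M : Type u} [AddCommGroup L] [Module R L] [AddCommGroup M] [Module R M]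

/-- If maps from finitely presented modules lift along `g`, then `ker g` is pure. -/
theorem ui_ker_of_lifts (g : L →ₗ[R] M)
    (h : ∀ (P : Type u) [AddCommGroup P] [Module R P], Module.FinitePresentation R P →
      ∀ φ : P →ₗ[R] M, LinearMap.range φ ≤ LinearMap.range g → ∃ ψ : P →ₗ[R] L, g ∘ₗ ψ = φ) :
    CAlgX.UniversallyInjective R (LinearMap.ker g).subtype := by
  classical
  intro Q _ _
  rw [injective_iff_map_eq_zero]
  intro x hx
  let π : (Q →₀ R) →ₗ[R] Q := Finsupp.linearCombination R id
  have hπ : Function.Surjective π := fun q => ⟨Finsupp.single q 1, by simp [π]⟩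
  obtain ⟨xt, rfl⟩ := LinearMap.lTensor_surjective (LinearMap.ker g) hπ x
  have hxt : (π.lTensor L) ((LinearMap.ker g).subtype.rTensor (Q →₀ R) xt) = 0 := by
    rw [← LinearMap.comp_apply, LinearMap.lTensor_comp_rTensor, ← LinearMap.rTensor_comp_lTensor,
      LinearMap.comp_apply, hx]
  have hex : Function.Exact ((LinearMap.ker π).subtype.lTensor L) (π.lTensor L) :=
    lTensor_exact (M := ↥(LinearMap.ker π)) L (LinearMap.exact_subtype_ker_map π) hπ
  obtain ⟨w, hw⟩ := (hex _).1 hxt
  obtain ⟨S, rfl⟩ := TensorProduct.exists_finset w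
  let l : S → L := fun i => i.1.1
  let ν : S → (Q →₀ R) := fun i => i.1.2.1
  have hw' : (LinearMap.ker g).subtype.rTensor (Q →₀ R) xt = ∑ i, l i ⊗ₜ[R] ν i := by
    rw [← hw, map_sum, ← Finset.sum_coe_sort]
    exact Finset.sum_congr rfl fun i _ => rfl
  let rel : Q → (S → R) := fun q i => ν i q
  have hfin : (Set.range rel).Finite := by
    refine Set.Finite.subset ((((Finset.univ : Finset S).biUnion fun i => (ν i).support).finite_toSet.image
      rel).insert 0) ?_
    rintro _ ⟨q, rfl⟩
    by_cases hq : q ∈ (Finset.univ : Finset S).biUnion fun i => (ν i).support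
    · exact Set.mem_insert_of_mem _ ⟨q, hq, rfl⟩
    · refine Set.mem_insert_iff.2 (Or.inl (funext fun i => ?_))
      by_contra hne
      exact hq (Finset.mem_biUnion.2 ⟨i, Finset.mem_univ _, Finsupp.mem_support_iff.2 hne⟩)
  haveI : Module.FinitePresentation R ((S → R) ⧸ Submodule.span R (Set.range rel)) :=
    Module.finitePresentation_of_surjective _ (Submodule.mkQ_surjective _)
      (by rw [Submodule.ker_mkQ]; exact ⟨hfin.toFinset, by rw [hfin.coe_toFinset]⟩)
  have hrel : ∀ q, ∑ i, ν i q • g (l i) = 0 := fun q => by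
    have h0 : g.rTensor (Q →₀ R) ((LinearMap.ker g).subtype.rTensor (Q →₀ R) xt) = 0 := by
      rw [← LinearMap.comp_apply, ← LinearMap.rTensor_comp, LinearMap.comp_ker_subtype,
        LinearMap.rTensor_zero, LinearMap.zero_apply]
    rw [hw', map_sum] at h0
    have := congrArg (fun z => TensorProduct.finsuppScalarRight R R M Q z q) h0
    simpa [Finsupp.finsetSum_apply] using this
  let φ : ((S → R) ⧸ Submodule.span R (Set.range rel)) →ₗ[R] M :=
    Submodule.liftQ _ (Fintype.linearCombination R (fun i => g (l i))) (by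
      rw [Submodule.span_le]
      rintro _ ⟨q, rfl⟩
      simpa [Fintype.linearCombination_apply, rel] using hrel q)
  have hφ : LinearMap.range φ ≤ LinearMap.range g := by
    rw [Submodule.range_liftQ]
    rintro _ ⟨c, rfl⟩
    exact ⟨∑ i, c i • l i, by simp [Fintype.linearCombination_apply]⟩
  obtain ⟨ψ, hψ⟩ := h _ inferInstance φ hφ
  let l' : S → L := fun i => ψ (Submodule.Quotient.mk (Pi.single i 1))
  have hl' : ∀ i, g (l' i) = g (l i) := fun i => by
    have := LinearMap.congr_fun hψ (Submodule.Quotient.mk (Pi.single i 1))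
    simpa [φ, l', Fintype.linearCombination_apply_single] using this
  have hrel' : ∀ q, ∑ i, ν i q • l' i = 0 := fun q => by
    have h1 : ψ ((Submodule.span R (Set.range rel)).mkQ (rel q)) = 0 := by
      rw [Submodule.mkQ_apply,
        (Submodule.Quotient.mk_eq_zero _).2 (Submodule.subset_span (Set.mem_range_self q)), map_zero]
    rw [pi_eq_sum_univ' (rel q), map_sum, map_sum] at h1
    simpa [map_smul, rel, l'] using h1
  let k : S → LinearMap.ker g := fun i => ⟨l i - l' i, by simp [hl']⟩
  have hz : ∑ i, l' i ⊗ₜ[R] ν i = 0 := by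
    apply (TensorProduct.finsuppScalarRight R R L Q).injective
    ext q
    simpa [Finsupp.finsetSum_apply] using hrel' q
  have hy : xt = ∑ i, k i ⊗ₜ[R] ν i := by
    apply Module.Flat.rTensor_preserves_injective_linearMap (M := Q →₀ R) (LinearMap.ker g).subtype
      (Submodule.injective_subtype _)
    rw [hw', map_sum]
    simp only [LinearMap.rTensor_tmul, Submodule.subtype_apply, k, sub_tmul,
      Finset.sum_sub_distrib, hz, sub_zero]
  rw [hy, map_sum]
  refine Finset.sum_eq_zero fun i _ => ?_
  rw [LinearMap.lTensor_tmul, show π (ν i) = 0 from i.1.2.2, tmul_zero]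

/-- Maps from finitely presented modules lift along surjections with pure kernel. -/
theorem pureProj_of_finitePresentation (P : Type u) [AddCommGroup P] [Module R P]
    [Module.FinitePresentation R P] : PureProj R P := by
  classical
  intro L N _ _ _ _ g hg hui φ
  obtain ⟨n, K, e, hK⟩ := Module.FinitePresentation.exists_fin R P
  obtain ⟨m, r, hr⟩ := Submodule.fg_iff_exists_fin_generating_family.1 hK
  choose l hl using fun i : Fin n => hg (φ (e.symm (Submodule.Quotient.mk (Pi.single i 1))))
  let Lt : (Fin n → R) →ₗ[R] L := Fintype.linearCombination R l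
  have hgL : g ∘ₗ Lt = φ ∘ₗ e.symm.toLinearMap ∘ₗ K.mkQ := LinearMap.pi_ext' fun i =>
    LinearMap.ext_ring (by simp [Lt, hl, Fintype.linearCombination_apply_single])
  have hc : ∀ j, Lt (r j) ∈ LinearMap.ker g := fun j => by
    have hj : r j ∈ K := hr ▸ Submodule.subset_span ⟨j, rfl⟩
    have := LinearMap.congr_fun hgL (r j)
    simp [(Submodule.Quotient.mk_eq_zero K).2 hj] at this
    exact this
  let A : (Fin n → R) →ₗ[R] (Fin m → R) := Fintype.linearCombination R fun i j => r j i
  let c : Fin m → LinearMap.ker g := fun j => ⟨_, hc j⟩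
  have hx : (∑ j, c j ⊗ₜ[R] (LinearMap.range A).mkQ (Pi.single j 1)) = 0 := by
    apply hui ((Fin m → R) ⧸ LinearMap.range A)
    rw [map_zero, map_sum]
    simp only [LinearMap.rTensor_tmul, Submodule.subtype_apply, c, Lt,
      Fintype.linearCombination_apply, sum_tmul, smul_tmul, ← map_smul]
    rw [Finset.sum_comm]
    refine Finset.sum_eq_zero fun i _ => ?_
    rw [← tmul_sum, ← map_sum, Submodule.mkQ_apply, (Submodule.Quotient.mk_eq_zero _).2, tmul_zero]
    exact ⟨Pi.single i 1, by
      rw [Fintype.linearCombination_apply_single, one_smul]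
      exact pi_eq_sum_univ' _⟩
  obtain ⟨z, hz⟩ := (lTensor_exact (LinearMap.ker g)
      (LinearMap.exact_map_mkQ_range A) (Submodule.mkQ_surjective _)
      (∑ j, c j ⊗ₜ[R] Pi.single j 1)).1 (by simpa [map_sum] using hx)
  let y : Fin n → LinearMap.ker g := TensorProduct.piScalarRight R R (LinearMap.ker g) (Fin n) z
  have key : ∀ (z : LinearMap.ker g ⊗[R] (Fin n → R)) j,
      TensorProduct.piScalarRight R R _ (Fin m) (A.lTensor _ z) j =
        ∑ i, r j i • TensorProduct.piScalarRight R R _ (Fin n) z i := by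
    intro z j
    induction z with
    | zero => simp
    | add a b ha hb => simp only [map_add, Pi.add_apply, ha, hb, smul_add, Finset.sum_add_distrib]
    | tmul k v =>
      simp [A, Fintype.linearCombination_apply, Finset.sum_smul, smul_smul, mul_comm]
  have hy : ∀ j, ∑ i, r j i • y i = c j := fun j => by
    rw [← key, hz, map_sum]
    simp [Pi.single_apply]
  let ψt : (Fin n → R) →ₗ[R] L := Fintype.linearCombination R fun i => l i - (y i : L)
  have hker : K ≤ LinearMap.ker ψt := by
    rw [← hr, Submodule.span_le]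
    rintro _ ⟨j, rfl⟩
    have h2 : ∑ i, r j i • (y i : L) = Lt (r j) := by
      simpa using congrArg Subtype.val (hy j)
    simp [ψt, Lt, Fintype.linearCombination_apply, smul_sub, Finset.sum_sub_distrib] at h2 ⊢
    simp [h2]
  refine ⟨K.liftQ ψt hker ∘ₗ e.toLinearMap, ?_⟩
  have h3 : g ∘ₗ ψt = φ ∘ₗ e.symm.toLinearMap ∘ₗ K.mkQ := LinearMap.pi_ext' fun i =>
    LinearMap.ext_ring (by simp [ψt, hl, Fintype.linearCombination_apply_single])
  ext p
  obtain ⟨v, hv⟩ := Submodule.Quotient.mk_surjective K (e p)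
  have h4 := LinearMap.congr_fun h3 v
  simp only [LinearMap.comp_apply, Submodule.mkQ_apply] at h4
  rw [LinearMap.comp_apply, LinearMap.comp_apply, LinearEquiv.coe_coe, ← hv, Submodule.liftQ_apply, h4]
  simp [hv]

theorem pureProj_dfinsupp {ι : Type u} (Q : ι → Type u) [∀ i, AddCommGroup (Q i)]
    [∀ i, Module R (Q i)] (h : ∀ i, PureProj R (Q i)) : PureProj R (Π₀ i, Q i) := by
  classical
  intro L N _ _ _ _ g hg hui φ
  choose ψ hψ using fun i => h i g hg hui (φ ∘ₗ DFinsupp.lsingle i)
  exact ⟨DFinsupp.lsum R ψ, DFinsupp.lhom_ext' fun i => by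
    rw [← hψ i]; ext x; simp⟩

theorem pureProj_of_retract {P Q : Type u} [AddCommGroup P] [Module R P] [AddCommGroup Q]
    [Module R Q] (s : P →ₗ[R] Q) (r : Q →ₗ[R] P) (h : r ∘ₗ s = LinearMap.id)
    (hQ : PureProj R Q) : PureProj R P := fun L N _ _ _ _ g hg hui φ => by
  obtain ⟨ψ, hψ⟩ := hQ g hg hui (φ ∘ₗ r)
  exact ⟨ψ ∘ₗ s, by rw [← LinearMap.comp_assoc, hψ, LinearMap.comp_assoc, h, LinearMap.comp_id]⟩

/-- Every module is a pure quotient of a direct sum of finitely presented modules. -/
theorem exists_cover (M : Type u) [AddCommGroup M] [Module R M] :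
    ∃ (ι : Type u) (Q : ι → Type u) (_ : ∀ i, AddCommGroup (Q i)) (_ : ∀ i, Module R (Q i)),
      (∀ i, Module.FinitePresentation R (Q i)) ∧
      ∃ g : (Π₀ i, Q i) →ₗ[R] M, Function.Surjective g ∧
        CAlgX.UniversallyInjective R (LinearMap.ker g).subtype := by
  classical
  let ι : Type u := Σ n : ℕ, Σ s : Finset (Fin n → R),
    {v : Fin n → M // ∀ c ∈ s, ∑ j, c j • v j = 0}
  let Q : ι → Type u := fun i => (Fin i.1 → R) ⧸ Submodule.span R (i.2.1 : Set (Fin i.1 → R))
  have hfp : ∀ i, Module.FinitePresentation R (Q i) := fun i =>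
    Module.finitePresentation_of_surjective _ (Submodule.mkQ_surjective _)
      (by rw [Submodule.ker_mkQ]; exact ⟨i.2.1, rfl⟩)
  let φ : ∀ i, Q i →ₗ[R] M := fun i => Submodule.liftQ _ (Fintype.linearCombination R i.2.2.1) (by
    rw [Submodule.span_le]
    intro c hc
    simpa [Fintype.linearCombination_apply] using i.2.2.2 c hc)
  refine ⟨ι, Q, inferInstance, inferInstance, hfp, DFinsupp.lsum R φ, ?_, ui_ker_of_lifts _ ?_⟩
  · intro m
    let i : ι := ⟨1, ∅, ⟨fun _ => m, fun c hc => absurd hc (Finset.notMem_empty c)⟩⟩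
    refine ⟨DFinsupp.lsingle (R := R) (M := Q) i (Submodule.Quotient.mk fun _ => 1), ?_⟩
    simp only [DFinsupp.lsum_lsingle, DFinsupp.lsingle_apply, DFinsupp.lsum_single, φ, i]
    erw [Submodule.liftQ_apply]
    simp [Fintype.linearCombination_apply]
  · intro P _ _ hP ψ _
    obtain ⟨n, K, e, ⟨s, hs⟩⟩ := Module.FinitePresentation.exists_fin R P
    let θ : (Fin n → R) →ₗ[R] M := ψ ∘ₗ e.symm.toLinearMap ∘ₗ K.mkQ
    have hθ : Fintype.linearCombination R (fun j => θ (Pi.single j 1)) = θ :=
      LinearMap.pi_ext' fun j => LinearMap.ext_ring (by simp [Fintype.linearCombination_apply_single])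
    let i : ι := ⟨n, s, ⟨fun j => θ (Pi.single j 1), fun c hc => by
      have hcK : c ∈ K := hs ▸ Submodule.subset_span hc
      rw [← Fintype.linearCombination_apply, hθ]
      simp [θ, (Submodule.Quotient.mk_eq_zero K).2 hcK]⟩⟩
    refine ⟨DFinsupp.lsingle (R := R) (M := Q) i ∘ₗ (Submodule.quotEquivOfEq K _ hs.symm).toLinearMap ∘ₗ
      e.toLinearMap, ?_⟩
    ext p
    obtain ⟨v, hv⟩ := Submodule.Quotient.mk_surjective K (e p)
    have h1 : ψ p = θ v := by simp [θ, hv]
    simp only [LinearMap.comp_apply, LinearEquiv.coe_coe, ← hv, Submodule.quotEquivOfEq_mk]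
    simp only [DFinsupp.lsum_lsingle, DFinsupp.lsingle_apply, DFinsupp.lsum_single]
    rw [h1, ← hθ]
    rfl

theorem pureProj_iff (P : Type u) [AddCommGroup P] [Module R P] :
    PureProj R P ↔
      ∃ (ι : Type u) (Q : ι → Type u) (_ : ∀ i, AddCommGroup (Q i)) (_ : ∀ i, Module R (Q i)),
      (∀ i, Module.FinitePresentation R (Q i)) ∧
      ∃ (s : P →ₗ[R] (Π₀ i, Q i)) (r : (Π₀ i, Q i) →ₗ[R] P), r ∘ₗ s = LinearMap.id := by
  constructor
  · intro h
    obtain ⟨ι, Q, _, _, hQ, g, hg, hui⟩ := exists_cover (R := R) P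
    obtain ⟨s, hs⟩ := h g hg hui LinearMap.id
    exact ⟨ι, Q, inferInstance, inferInstance, hQ, s, g, hs⟩
  · rintro ⟨ι, Q, _, _, hQ, s, r, h⟩
    exact pureProj_of_retract s r h (pureProj_dfinsupp Q fun i =>
      haveI := hQ i; pureProj_of_finitePresentation (Q i))

/-- The evaluation map into the double character module is universally injective. -/
theorem ui_charEval (M : Type u) [AddCommGroup M] [Module R M] :
    CAlgX.UniversallyInjective R (_root_.PureExt.charEval R M) := by
  intro Q _ _
  rw [injective_iff_map_eq_zero]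
  intro x hx
  refine CharacterModule.eq_zero_of_character_apply fun c => ?_
  let φ : Q →ₗ[R] CharacterModule M :=
    { toFun := fun q => AddMonoidHom.comp c ((TensorProduct.mk R M Q).flip q).toAddMonoidHom
      map_add' := fun a b => by
        refine CharacterModule.ext (A := M) fun m => ?_
        show c (m ⊗ₜ[R] (a + b)) = c (m ⊗ₜ[R] a) + c (m ⊗ₜ[R] b)
        rw [tmul_add, map_add]
      map_smul' := fun r q => by
        refine CharacterModule.ext (A := M) fun m => ?_
        show c (m ⊗ₜ[R] (r • q)) = c ((r • m) ⊗ₜ[R] q)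
        rw [smul_tmul] }
  let Φ : CharacterModule (CharacterModule M) ⊗[R] Q →+ AddCircle (1 : ℚ) :=
    TensorProduct.liftAddHom
      { toFun := fun ξ =>
          { toFun := fun q => ξ (φ q)
            map_zero' := by simp
            map_add' := fun a b => by simp }
        map_zero' := by ext q; rfl
        map_add' := fun a b => by ext q; rfl }
      (fun r ξ q => by simp [CharacterModule.smul_apply])
  have key : ∀ z, Φ ((_root_.PureExt.charEval R M).rTensor Q z) = c z := fun z => by
    induction z with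
    | zero => simp
    | add a b ha hb => simp [ha, hb]
    | tmul m q => rfl
  rw [← key x, hx, map_zero]

theorem pureInj_characterModule (N : Type u) [AddCommGroup N] [Module R N] :
    PureInj R (CharacterModule N) := fun K L _ _ _ _ f hf φ => by
  obtain ⟨ψ, hψ⟩ := (rTensor_injective_iff_lcomp_surjective.1 (hf N)) φ
  exact ⟨ψ, hψ⟩

theorem pureInj_of_retract {I J : Type u} [AddCommGroup I] [Module R I] [AddCommGroup J]
    [Module R J] (s : I →ₗ[R] J) (r : J →ₗ[R] I) (h : r ∘ₗ s = LinearMap.id)
    (hJ : PureInj R J) : PureInj R I := fun K L _ _ _ _ f hf φ => by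
  obtain ⟨ψ, hψ⟩ := hJ f hf (s ∘ₗ φ)
  exact ⟨r ∘ₗ ψ, by rw [LinearMap.comp_assoc, hψ, ← LinearMap.comp_assoc, h, LinearMap.id_comp]⟩

/-- The image of a universally exact pair is pure. -/
theorem ui_range_of_exact {A B C : Type u} [AddCommGroup A] [Module R A] [AddCommGroup B]
    [Module R B] [AddCommGroup C] [Module R C] (f : A →ₗ[R] B) (g : B →ₗ[R] C)
    (h : ∀ (Q : Type u) [AddCommGroup Q] [Module R Q], Function.Exact (f.rTensor Q) (g.rTensor Q))
    (hgf : g ∘ₗ f = 0) :
    CAlgX.UniversallyInjective R (LinearMap.range g).subtype := by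
  intro Q _ _
  rw [injective_iff_map_eq_zero]
  intro x hx
  obtain ⟨y, rfl⟩ := LinearMap.rTensor_surjective Q g.surjective_rangeRestrict x
  rw [← LinearMap.comp_apply, ← LinearMap.rTensor_comp] at hx
  replace hx : g.rTensor Q y = 0 := hx
  obtain ⟨z, rfl⟩ := (h Q y).1 hx
  have : g.rangeRestrict ∘ₗ f = 0 := by
    ext a
    exact LinearMap.congr_fun hgf a
  rw [← LinearMap.comp_apply, ← LinearMap.rTensor_comp, this, LinearMap.rTensor_zero,
    LinearMap.zero_apply]

theorem exact_of_rTensor {A B C : Type u} [AddCommGroup A] [Module R A] [AddCommGroup B]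
    [Module R B] [AddCommGroup C] [Module R C] (f : A →ₗ[R] B) (g : B →ₗ[R] C)
    (h : Function.Exact (f.rTensor R) (g.rTensor R)) : Function.Exact f g := by
  refine (Function.Exact.iff_of_ladder_linearEquiv (e₁ := TensorProduct.rid R A)
    (e₂ := TensorProduct.rid R B) (e₃ := TensorProduct.rid R C) ?_ ?_).2 h <;> ext <;> simp

theorem surjective_of_rTensor {A B : Type u} [AddCommGroup A] [Module R A] [AddCommGroup B]
    [Module R B] (f : A →ₗ[R] B) (h : Function.Surjective (f.rTensor R)) : Function.Surjective f :=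
  fun b => by
    obtain ⟨y, hy⟩ := h ((TensorProduct.rid R B).symm b)
    refine ⟨TensorProduct.rid R A y, ?_⟩
    have : f ∘ₗ (TensorProduct.rid R A).toLinearMap = (TensorProduct.rid R B).toLinearMap ∘ₗ f.rTensor R := by
      ext; simp
    have h2 := LinearMap.congr_fun this y
    simp only [LinearMap.comp_apply, LinearEquiv.coe_coe, hy, LinearEquiv.apply_symm_apply] at h2
    exact h2

end GrothLib.PureExt
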