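import Groth.Agent.Lib.PureExt.Basic

/-!
# Pure projective and pure injective resolutions
-/

universe u

open CategoryTheory Limits

namespace GrothLib.PureExt

variable {R : Type u} [CommRing R]

/-- Exactness after tensoring with every module. -/
def UExact {A B C : Type u} [AddCommGroup A] [Module R A] [AddCommGroup B] [Module R B]
    [AddCommGroup C] [Module R C] (f : A →ₗ[R] B) (g : B →ₗ[R] C) : Prop :=
  ∀ (T : Type u) [AddCommGroup T] [Module R T], Function.Exact (f.rTensor T) (g.rTensor T)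

variable {A B C D E : Type u} [AddCommGroup A] [Module R A] [AddCommGroup B] [Module R B]
  [AddCommGroup C] [Module R C] [AddCommGroup D] [Module R D] [AddCommGroup E] [Module R E]

theorem UExact.exact {f : A →ₗ[R] B} {g : B →ₗ[R] C} (h : UExact f g) : Function.Exact f g :=
  exact_of_rTensor f g (h R)

theorem ui_ker_of_uexact {f : A →ₗ[R] B} {g : B →ₗ[R] C} {g' : C →ₗ[R] D} (h : UExact f g)
    (h' : UExact g g') : CAlgX.UniversallyInjective R (LinearMap.ker g').subtype := by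
  rw [LinearMap.exact_iff.1 h'.exact]
  exact ui_range_of_exact f g h h.exact.linearMap_comp_eq_zero

/-- Splicing. -/
theorem uexact_splice {g' : A →ₗ[R] C} {i : C →ₗ[R] B} {g : B →ₗ[R] D} {j : D →ₗ[R] E}
    (hg' : Function.Surjective g') (hi : Function.Exact i g) (hg : Function.Surjective g)
    (hj : CAlgX.UniversallyInjective R j) : UExact (i ∘ₗ g') (j ∘ₗ g) := by
  intro T _ _
  rw [LinearMap.exact_iff]
  have h1 : LinearMap.ker (g.rTensor T) = LinearMap.range (i.rTensor T) :=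
    LinearMap.exact_iff.1 (rTensor_exact T hi hg)
  rw [LinearMap.rTensor_comp, LinearMap.rTensor_comp, LinearMap.ker_comp_of_ker_eq_bot _
    (LinearMap.ker_eq_bot.2 (hj T)), h1, LinearMap.range_comp_of_range_eq_top _
    (LinearMap.range_eq_top.2 (LinearMap.rTensor_surjective T hg'))]

theorem ui_id : CAlgX.UniversallyInjective R (LinearMap.id : A →ₗ[R] A) := fun Q _ _ => by
  rw [LinearMap.rTensor_id]
  exact fun _ _ h => h

/-- Lifting against an exact pair with pure kernel. -/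
theorem exists_lift {P X₁ X₂ X₃ : ModuleCat.{u} R} (hP : PureProj R P) (g₁ : X₁ ⟶ X₂) (g₂ : X₂ ⟶ X₃)
    (he : Function.Exact g₁.hom g₂.hom)
    (hk : CAlgX.UniversallyInjective R (LinearMap.ker g₁.hom).subtype)
    (k : P ⟶ X₂) (hk0 : k ≫ g₂ = 0) : ∃ l : P ⟶ X₁, l ≫ g₁ = k := by
  have hk' : ∀ p, k.hom p ∈ LinearMap.range g₁.hom := fun p =>
    (he _).1 (LinearMap.congr_fun (congrArg ModuleCat.Hom.hom hk0) p)
  obtain ⟨l, hl⟩ := hP g₁.hom.rangeRestrict g₁.hom.surjective_rangeRestrict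
    (by rw [LinearMap.ker_rangeRestrict]; exact hk) (k.hom.codRestrict _ hk')
  refine ⟨ModuleCat.ofHom l, ?_⟩
  ext p
  exact congrArg Subtype.val (LinearMap.congr_fun hl p)

/-- Extending along a universally exact pair. -/
theorem exists_extend {I X₁ X₂ X₃ : ModuleCat.{u} R} (hI : PureInj R I) (g₁ : X₁ ⟶ X₂) (g₂ : X₂ ⟶ X₃)
    (he : UExact g₁.hom g₂.hom)
    (k : X₂ ⟶ I) (hk0 : g₁ ≫ k = 0) : ∃ l : X₃ ⟶ I, g₂ ≫ l = k := by
  have hle : LinearMap.ker g₂.hom ≤ LinearMap.ker k.hom := by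
    intro x hx
    obtain ⟨a, rfl⟩ := (he.exact x).1 hx
    exact LinearMap.congr_fun (congrArg ModuleCat.Hom.hom hk0) a
  obtain ⟨l, hl⟩ := hI (LinearMap.range g₂.hom).subtype
    (ui_range_of_exact g₁.hom g₂.hom he he.exact.linearMap_comp_eq_zero)
    ((LinearMap.ker g₂.hom).liftQ k.hom hle ∘ₗ g₂.hom.quotKerEquivRange.symm.toLinearMap)
  refine ⟨ModuleCat.ofHom l, ?_⟩
  ext x
  have h := LinearMap.congr_fun hl ⟨g₂.hom x, x, rfl⟩
  simp only [LinearMap.comp_apply, LinearEquiv.coe_coe, Submodule.subtype_apply,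
    LinearMap.quotKerEquivRange_symm_apply_image, Submodule.mkQ_apply, Submodule.liftQ_apply] at h
  exact h

section Chain

variable {N : ModuleCat.{u} R} {K : ChainComplex (ModuleCat.{u} R) ℕ}
  (ε : K ⟶ (ChainComplex.single₀ (ModuleCat.{u} R)).obj N)

/-- The augmentation. -/
noncomputable abbrev aug : K.X 0 ⟶ N := ε.f 0

/-- `ε` is a pure resolution. -/
structure IsPureRes : Prop where
  surj : Function.Surjective (aug ε).hom
  exact₀ : UExact (K.d 1 0).hom (aug ε).hom
  exact : ∀ n, UExact (K.d (n + 2) (n + 1)).hom (K.d (n + 1) n).hom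

variable (T : ModuleCat.{u} R)

theorem quasiIsoAt_succ_iff (n : ℕ) :
    QuasiIsoAt (((MonoidalCategory.tensorRight T).mapHomologicalComplex (ComplexShape.down ℕ)).map ε) (n + 1) ↔
      Function.Exact ((K.d (n + 2) (n + 1)).hom.rTensor T) ((K.d (n + 1) n).hom.rTensor T) := by
  rw [quasiIsoAt_iff_exactAt']
  · rw [HomologicalComplex.exactAt_iff' _ (n + 2) (n + 1) n (by simp) (by simp),
      ShortComplex.ShortExact.moduleCat_exact_iff_function_exact]
    rfl
  · refine (HomologicalComplex.exactAt_iff _ _).2 (ShortComplex.exact_of_isZero_X₂ _ ?_)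
    exact Functor.map_isZero (MonoidalCategory.tensorRight T)
      (HomologicalComplex.isZero_single_obj_X _ _ _ _ (Nat.succ_ne_zero n))

theorem quasiIsoAt_zero_iff :
    QuasiIsoAt (((MonoidalCategory.tensorRight T).mapHomologicalComplex (ComplexShape.down ℕ)).map ε) 0 ↔
      Function.Exact ((K.d 1 0).hom.rTensor T) ((aug ε).hom.rTensor T) ∧
        Function.Surjective ((aug ε).hom.rTensor T) := by
  rw [quasiIsoAt_iff' _ 1 0 0 (by simp) (by simp), ShortComplex.quasiIso_iff_of_zeros',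
    ShortComplex.ShortExact.moduleCat_exact_iff_function_exact, ModuleCat.epi_iff_surjective]
  · rfl
  · show (((MonoidalCategory.tensorRight T).mapHomologicalComplex _).obj _).d 0 0 = 0
    exact HomologicalComplex.shape _ _ _ (by simp)
  · exact (Functor.map_isZero (MonoidalCategory.tensorRight T)
      (HomologicalComplex.isZero_single_obj_X _ _ _ _ one_ne_zero)).eq_of_src _ _
  · show (((MonoidalCategory.tensorRight T).mapHomologicalComplex _).obj _).d 0 0 = 0
    exact HomologicalComplex.shape _ _ _ (by simp)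

theorem isPureRes_iff :
    (∀ T : ModuleCat.{u} R,
      QuasiIso (((MonoidalCategory.tensorRight T).mapHomologicalComplex (ComplexShape.down ℕ)).map ε)) ↔
      IsPureRes ε := by
  constructor
  · intro h
    refine ⟨surjective_of_rTensor _ ((quasiIsoAt_zero_iff ε (ModuleCat.of R R)).1 ?_).2,
      fun T _ _ => ((quasiIsoAt_zero_iff ε (ModuleCat.of R T)).1 ?_).1,
      fun n T _ _ => (quasiIsoAt_succ_iff ε (ModuleCat.of R T) n).1 ?_⟩
    all_goals exact (h _).quasiIsoAt _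
  · intro h T
    refine ⟨fun i => ?_⟩
    cases i with
    | zero => exact (quasiIsoAt_zero_iff ε T).2 ⟨h.exact₀ T, LinearMap.rTensor_surjective T h.surj⟩
    | succ n => exact (quasiIsoAt_succ_iff ε T n).2 (h.exact n T)

variable {ε}

theorem IsPureRes.ui_ker_aug (h : IsPureRes ε) :
    CAlgX.UniversallyInjective R (LinearMap.ker (aug ε).hom).subtype :=
  ui_ker_of_uexact (h.exact 0) h.exact₀

theorem IsPureRes.ui_ker (h : IsPureRes ε) (n : ℕ) :
    CAlgX.UniversallyInjective R (LinearMap.ker (K.d (n + 1) n).hom).subtype :=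
  ui_ker_of_uexact (h.exact (n + 1)) (h.exact n)

theorem IsPureRes.lift_aug (h : IsPureRes ε) {P : ModuleCat.{u} R} (hP : PureProj R P) (k : P ⟶ N) :
    ∃ l : P ⟶ K.X 0, l ≫ aug ε = k := by
  obtain ⟨l, hl⟩ := hP (aug ε).hom h.surj h.ui_ker_aug k.hom
  exact ⟨ModuleCat.ofHom l, by ext p; exact LinearMap.congr_fun hl p⟩

theorem IsPureRes.lift_zero (h : IsPureRes ε) {P : ModuleCat.{u} R} (hP : PureProj R P)
    (k : P ⟶ K.X 0) (hk : k ≫ aug ε = 0) : ∃ l : P ⟶ K.X 1, l ≫ K.d 1 0 = k :=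
  exists_lift hP _ _ h.exact₀.exact (h.ui_ker 0) k hk

theorem IsPureRes.lift_succ (h : IsPureRes ε) {P : ModuleCat.{u} R} (hP : PureProj R P) (n : ℕ)
    (k : P ⟶ K.X (n + 1)) (hk : k ≫ K.d (n + 1) n = 0) :
    ∃ l : P ⟶ K.X (n + 2), l ≫ K.d (n + 2) (n + 1) = k :=
  exists_lift hP _ _ (h.exact n).exact (h.ui_ker (n + 1)) k hk

theorem exists_chainMap {M : ModuleCat.{u} R} (f : M ⟶ N) (P : ChainComplex (ModuleCat.{u} R) ℕ)
    (π : P ⟶ (ChainComplex.single₀ (ModuleCat.{u} R)).obj M) (hP : ∀ n, PureProj R (P.X n))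
    (h : IsPureRes ε) :
    ∃ φ : P ⟶ K, φ ≫ ε = π ≫ (ChainComplex.single₀ (ModuleCat.{u} R)).map f := by
  obtain ⟨φ₀, h₀⟩ := h.lift_aug (hP 0) (aug π ≫ f)
  have hw : (P.d 1 0 ≫ φ₀) ≫ aug ε = 0 := by
    have e : P.d 1 0 ≫ aug π = 0 := by
      have := π.comm 1 0
      rw [HomologicalComplex.single_obj_d, comp_zero] at this
      exact this.symm
    rw [Category.assoc, h₀, reassoc_of% e, zero_comp]
  obtain ⟨φ₁, h₁⟩ := h.lift_zero (hP 1) _ hw
  choose s hs using fun (n : ℕ)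
      (p : Σ' (g : P.X n ⟶ K.X n) (g' : P.X (n + 1) ⟶ K.X (n + 1)),
        g' ≫ K.d (n + 1) n = P.d (n + 1) n ≫ g) =>
    h.lift_succ (hP (n + 2)) n (P.d (n + 2) (n + 1) ≫ p.2.1) (by simp [p.2.2])
  refine ⟨ChainComplex.mkHom _ _ φ₀ φ₁ h₁ fun n p => ⟨s n p, hs n p⟩, ?_⟩
  refine HomologicalComplex.to_single_hom_ext ?_
  rw [HomologicalComplex.comp_f, HomologicalComplex.comp_f, ChainComplex.mkHom_f_0,
    ChainComplex.single₀_map_f_zero]
  exact h₀

theorem exists_homotopy_zero (P : ChainComplex (ModuleCat.{u} R) ℕ) (hP : ∀ n, PureProj R (P.X n))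
    (h : IsPureRes ε) (e : P ⟶ K) (he : e ≫ ε = 0) : Nonempty (Homotopy e 0) := by
  obtain ⟨z, hz⟩ := h.lift_zero (hP 0) (e.f 0) (by
    exact HomologicalComplex.congr_hom he 0)
  obtain ⟨o, ho⟩ := h.lift_succ (hP 1) 0 (e.f 1 - P.d 1 0 ≫ z) (by simp [hz])
  choose s hs using fun (n : ℕ)
      (p : Σ' (g : P.X n ⟶ K.X (n + 1)) (g' : P.X (n + 1) ⟶ K.X (n + 2)),
        e.f (n + 1) = P.d (n + 1) n ≫ g + g' ≫ K.d (n + 2) (n + 1)) =>
    h.lift_succ (hP (n + 2)) (n + 1) (e.f (n + 2) - P.d (n + 2) (n + 1) ≫ p.2.1) (by simp [p.2.2])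
  exact ⟨Homotopy.mkInductive e z (by simp [hz]) o (by simp [ho]) fun n p =>
    ⟨s n p, by simp [hs n p]⟩⟩

end Chain

section Cochain

variable {M : ModuleCat.{u} R} {K : CochainComplex (ModuleCat.{u} R) ℕ}
  (η : (CochainComplex.single₀ (ModuleCat.{u} R)).obj M ⟶ K)

/-- The coaugmentation. -/
noncomputable abbrev coaug : M ⟶ K.X 0 := η.f 0

/-- `η` is a pure coresolution. -/
structure IsPureCores : Prop where
  ui : CAlgX.UniversallyInjective R (coaug η).hom
  exact₀ : UExact (coaug η).hom (K.d 0 1).hom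
  exact : ∀ n, UExact (K.d n (n + 1)).hom (K.d (n + 1) (n + 2)).hom

variable (T : ModuleCat.{u} R)

theorem quasiIsoAt_succ_iff' (n : ℕ) :
    QuasiIsoAt (((MonoidalCategory.tensorRight T).mapHomologicalComplex (ComplexShape.up ℕ)).map η) (n + 1) ↔
      Function.Exact ((K.d n (n + 1)).hom.rTensor T) ((K.d (n + 1) (n + 2)).hom.rTensor T) := by
  rw [quasiIsoAt_iff_exactAt]
  · rw [HomologicalComplex.exactAt_iff' _ n (n + 1) (n + 2) (by simp) (by simp),
      ShortComplex.ShortExact.moduleCat_exact_iff_function_exact]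
    rfl
  · refine (HomologicalComplex.exactAt_iff _ _).2 (ShortComplex.exact_of_isZero_X₂ _ ?_)
    exact Functor.map_isZero (MonoidalCategory.tensorRight T)
      (HomologicalComplex.isZero_single_obj_X _ _ _ _ (Nat.succ_ne_zero n))

theorem quasiIsoAt_zero_iff' :
    QuasiIsoAt (((MonoidalCategory.tensorRight T).mapHomologicalComplex (ComplexShape.up ℕ)).map η) 0 ↔
      Function.Exact ((coaug η).hom.rTensor T) ((K.d 0 1).hom.rTensor T) ∧
        Function.Injective ((coaug η).hom.rTensor T) := by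
  rw [quasiIsoAt_iff' _ 0 0 1 (by simp) (by simp), ShortComplex.quasiIso_iff_of_zeros,
    ShortComplex.ShortExact.moduleCat_exact_iff_function_exact, ModuleCat.mono_iff_injective]
  · rfl
  · show (((MonoidalCategory.tensorRight T).mapHomologicalComplex _).obj _).d 0 0 = 0
    exact HomologicalComplex.shape _ _ _ (by simp)
  · exact (Functor.map_isZero (MonoidalCategory.tensorRight T)
      (HomologicalComplex.isZero_single_obj_X _ _ _ _ one_ne_zero)).eq_of_tgt _ _
  · show (((MonoidalCategory.tensorRight T).mapHomologicalComplex _).obj _).d 0 0 = 0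
    exact HomologicalComplex.shape _ _ _ (by simp)

theorem isPureCores_iff :
    (∀ T : ModuleCat.{u} R,
      QuasiIso (((MonoidalCategory.tensorRight T).mapHomologicalComplex (ComplexShape.up ℕ)).map η)) ↔
      IsPureCores η := by
  constructor
  · intro h
    refine ⟨fun T _ _ => ((quasiIsoAt_zero_iff' η (ModuleCat.of R T)).1 ?_).2,
      fun T _ _ => ((quasiIsoAt_zero_iff' η (ModuleCat.of R T)).1 ?_).1,
      fun n T _ _ => (quasiIsoAt_succ_iff' η (ModuleCat.of R T) n).1 ?_⟩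
    all_goals exact (h _).quasiIsoAt _
  · intro h T
    refine ⟨fun i => ?_⟩
    cases i with
    | zero => exact (quasiIsoAt_zero_iff' η T).2 ⟨h.exact₀ T, h.ui T⟩
    | succ n => exact (quasiIsoAt_succ_iff' η T n).2 (h.exact n T)

variable {η}

theorem exists_cochainMap {N : ModuleCat.{u} R} (f : M ⟶ N) (I : CochainComplex (ModuleCat.{u} R) ℕ)
    (ε : (CochainComplex.single₀ (ModuleCat.{u} R)).obj N ⟶ I) (hI : ∀ n, PureInj R (I.X n))
    (h : IsPureCores η) :
    ∃ φ : K ⟶ I, η ≫ φ = (CochainComplex.single₀ (ModuleCat.{u} R)).map f ≫ ε := by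
  obtain ⟨l, hl⟩ := hI 0 (coaug η).hom h.ui (f ≫ coaug ε).hom
  have h₀ : coaug η ≫ ModuleCat.ofHom l = f ≫ coaug ε := by
    ext x
    exact LinearMap.congr_fun hl x
  have e : coaug ε ≫ I.d 0 1 = 0 := by
    have := ε.comm 0 1
    rw [HomologicalComplex.single_obj_d, zero_comp] at this
    exact this
  obtain ⟨φ₁, h₁⟩ := exists_extend (hI 1) (coaug η) (K.d 0 1) h.exact₀ (ModuleCat.ofHom l ≫ I.d 0 1)
    (by rw [reassoc_of% h₀, e, comp_zero])
  choose s hs using fun (n : ℕ)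
      (p : Σ' (g : K.X n ⟶ I.X n) (g' : K.X (n + 1) ⟶ I.X (n + 1)),
        g ≫ I.d n (n + 1) = K.d n (n + 1) ≫ g') =>
    exists_extend (hI (n + 2)) _ _ (h.exact n) (p.2.1 ≫ I.d (n + 1) (n + 2))
      (by rw [← reassoc_of% p.2.2]; simp)
  refine ⟨CochainComplex.mkHom _ _ (ModuleCat.ofHom l) φ₁ h₁.symm fun n p => ⟨s n p, (hs n p).symm⟩, ?_⟩
  refine HomologicalComplex.from_single_hom_ext ?_
  rw [HomologicalComplex.comp_f, HomologicalComplex.comp_f, CochainComplex.mkHom_f_0,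
    CochainComplex.single₀_map_f_zero]
  exact h₀

theorem exists_homotopy_zero' (I : CochainComplex (ModuleCat.{u} R) ℕ) (hI : ∀ n, PureInj R (I.X n))
    (h : IsPureCores η) (e : K ⟶ I) (he : η ≫ e = 0) : Nonempty (Homotopy e 0) := by
  obtain ⟨z, hz⟩ := exists_extend (hI 0) (coaug η) (K.d 0 1) h.exact₀ (e.f 0) (by
    exact HomologicalComplex.congr_hom he 0)
  obtain ⟨o, ho⟩ := exists_extend (hI 1) _ _ (h.exact 0) (e.f 1 - z ≫ I.d 0 1) (by
    rw [Preadditive.comp_sub, ← e.comm, reassoc_of% hz, sub_self])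
  choose s hs using fun (n : ℕ)
      (p : Σ' (g : K.X (n + 1) ⟶ I.X n) (g' : K.X (n + 2) ⟶ I.X (n + 1)),
        e.f (n + 1) = g ≫ I.d n (n + 1) + K.d (n + 1) (n + 2) ≫ g') =>
    exists_extend (hI (n + 2)) _ _ (h.exact (n + 1)) (e.f (n + 2) - p.2.1 ≫ I.d (n + 1) (n + 2)) (by
      have := p.2.2
      rw [Preadditive.comp_sub, ← e.comm]; simp [this])
  exact ⟨Homotopy.mkCoinductive e z hz.symm o (by simp [ho]) fun n p =>
    ⟨s n p, by simp [hs n p]⟩⟩

end Cochain

theorem exists_pureProj_resolution (M : ModuleCat.{u} R) :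
    ∃ (P : ChainComplex (ModuleCat.{u} R) ℕ) (π : P ⟶ (ChainComplex.single₀ (ModuleCat.{u} R)).obj M),
      (∀ n : ℕ, ∃ (ι : Type u) (Q : ι → Type u) (_ : ∀ i, AddCommGroup (Q i)) (_ : ∀ i, Module R (Q i)),
        (∀ i, Module.FinitePresentation R (Q i)) ∧
        ∃ (s : P.X n →ₗ[R] (Π₀ i, Q i)) (r : (Π₀ i, Q i) →ₗ[R] P.X n), r ∘ₗ s = LinearMap.id) ∧
      IsPureRes π := by
  choose ι Q iA iM hQ g hg hui using fun C : ModuleCat.{u} R => exists_cover (R := R) C
  letI := iA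
  letI := iM
  let C : ℕ → ModuleCat.{u} R := fun n =>
    Nat.rec (motive := fun _ => ModuleCat.{u} R) M (fun _ C => ModuleCat.of R (LinearMap.ker (g C))) n
  let X : ℕ → ModuleCat.{u} R := fun n => ModuleCat.of R (Π₀ i, Q (C n) i)
  let i' : ∀ n, C (n + 1) →ₗ[R] X n := fun n => (LinearMap.ker (g (C n))).subtype
  have hex : ∀ n, Function.Exact (i' n) (g (C n)) := fun n => LinearMap.exact_subtype_ker_map _
  let d : ∀ n, X (n + 1) ⟶ X n := fun n => ModuleCat.ofHom (i' n ∘ₗ g (C (n + 1)))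
  have sq : ∀ n, d (n + 1) ≫ d n = 0 := fun n => by
    ext x : 2
    show i' n (g (C (n + 1)) (i' (n + 1) (g (C (n + 2)) x))) = 0
    rw [(hex (n + 1)).apply_apply_eq_zero, map_zero]
  let P := ChainComplex.of X d sq
  have hd : ∀ n, P.d (n + 1) n = d n := fun n => ChainComplex.of_d X d n
  let π : P ⟶ (ChainComplex.single₀ (ModuleCat.{u} R)).obj M :=
    (ChainComplex.toSingle₀Equiv P M).symm ⟨ModuleCat.ofHom (g (C 0)), by
      rw [hd 0]
      ext x : 2
      exact (hex 0).apply_apply_eq_zero _⟩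
  have hπ : aug π = ModuleCat.ofHom (g (C 0)) :=
    ChainComplex.toSingle₀Equiv_symm_apply_f_zero _ _
  have hsum : ∀ n, ∃ (ι : Type u) (Q : ι → Type u) (_ : ∀ i, AddCommGroup (Q i)) (_ : ∀ i, Module R (Q i)),
      (∀ i, Module.FinitePresentation R (Q i)) ∧
      ∃ (s : X n →ₗ[R] (Π₀ i, Q i)) (r : (Π₀ i, Q i) →ₗ[R] X n), r ∘ₗ s = LinearMap.id := fun n =>
    ⟨ι (C n), Q (C n), inferInstance, inferInstance, hQ _, LinearMap.id, LinearMap.id,
      LinearMap.id_comp _⟩
  refine ⟨P, π, hsum, ?_, ?_, fun n => ?_⟩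
  · rw [hπ]; exact hg _
  · rw [hπ, hd 0]
    have h := uexact_splice (g' := g (C 1)) (i := i' 0) (g := g (C 0)) (j := LinearMap.id)
      (hg (C 1)) (hex 0) (hg (C 0)) ui_id
    rw [LinearMap.id_comp] at h
    exact h
  · rw [hd n, hd (n + 1)]
    exact uexact_splice (hg (C (n + 2))) (hex (n + 1)) (hg (C (n + 1))) (hui (C n))

theorem exists_pureInj_resolution (M : ModuleCat.{u} R) :
    ∃ (I : CochainComplex (ModuleCat.{u} R) ℕ) (η : (CochainComplex.single₀ (ModuleCat.{u} R)).obj M ⟶ I),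
      (∀ n : ℕ, PureInj R (I.X n)) ∧ IsPureCores η := by
  let i (C : ModuleCat.{u} R) := _root_.PureExt.charEval R C
  let C : ℕ → ModuleCat.{u} R := fun n =>
    Nat.rec (motive := fun _ => ModuleCat.{u} R) M (fun _ C => ModuleCat.of R (CharacterModule (CharacterModule ↑C) ⧸ LinearMap.range (i C))) n
  let X : ℕ → ModuleCat.{u} R := fun n =>
    ModuleCat.of R (CharacterModule (CharacterModule ↑(C n)))
  let q : ∀ n, X n →ₗ[R] C (n + 1) := fun n => (LinearMap.range (i (C n))).mkQ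
  have hq : ∀ n, Function.Surjective (q n) := fun n => Submodule.mkQ_surjective _
  have hex : ∀ n, Function.Exact (i (C n)) (q n) := fun n => LinearMap.exact_map_mkQ_range _
  let d : ∀ n, X n ⟶ X (n + 1) := fun n => ModuleCat.ofHom (i (C (n + 1)) ∘ₗ q n)
  have sq : ∀ n, d n ≫ d (n + 1) = 0 := fun n => by
    ext x : 2
    show i (C (n + 2)) (q (n + 1) (i (C (n + 1)) (q n x))) = 0
    rw [(hex (n + 1)).apply_apply_eq_zero, map_zero]
  let I := CochainComplex.of X d sq
  have hd : ∀ n, I.d n (n + 1) = d n := fun n => CochainComplex.of_d X d n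
  let η : (CochainComplex.single₀ (ModuleCat.{u} R)).obj M ⟶ I :=
    (CochainComplex.fromSingle₀Equiv I M).symm ⟨ModuleCat.ofHom (i (C 0)), by
      rw [hd 0]
      ext x : 2
      show i (C 1) (q 0 (i (C 0) x)) = 0
      rw [(hex 0).apply_apply_eq_zero, map_zero]⟩
  have hη : coaug η = ModuleCat.ofHom (i (C 0)) :=
    CochainComplex.fromSingle₀Equiv_symm_apply_f_zero _ _
  refine ⟨I, η, fun n => pureInj_characterModule _, ?_, ?_, fun n => ?_⟩
  · rw [hη]; exact ui_charEval _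
  · rw [hη, hd 0]
    have := uexact_splice (g' := (LinearMap.id : C 0 →ₗ[R] C 0)) (fun x => ⟨x, rfl⟩) (hex 0) (hq 0)
      (ui_charEval (C 1))
    rw [LinearMap.comp_id] at this
    exact this
  · rw [hd n, hd (n + 1)]
    exact uexact_splice (hq n) (hex (n + 1)) (hq (n + 1)) (ui_charEval (C (n + 2)))

end GrothLib.PureExt
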